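import Groth.Agent.Lib.HomFG.TateInj
import Mathlib.FieldTheory.Minpoly.IsIntegrallyClosed

/-!
# Consequences of the finiteness of groups of homomorphisms
-/

universe u

open CategoryTheory CategoryTheory.Limits MonoidalCategory CartesianMonoidalCategory AlgebraicGeometry
open scoped MonObj

set_option backward.isDefEq.respectTransparency false

noncomputable section

namespace GrothLib.HomFG

theorem exists_prime_ne_zero (k : Type u) [Field k] : ∃ l : ℕ, l.Prime ∧ (l : k) ≠ 0 := by
  by_cases h2 : (2 : k) = 0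
  · refine ⟨3, Nat.prime_three, fun h3 => one_ne_zero (α := k) ?_⟩
    have : (1 : k) = (3 : k) - 2 := by norm_num
    rw [this, h2, sub_zero]
    exact_mod_cast h3
  · exact ⟨2, Nat.prime_two, by exact_mod_cast h2⟩

variable {K : Type u} [Field K] {A B : Over (Spec (CommRingCat.of K))}
  [GrpObj A] [IsCommMonObj A] [IsProper A.hom] [GeometricallyIntegral A.hom]
  [GrpObj B] [IsCommMonObj B] [IsProper B.hom] [GeometricallyIntegral B.hom]

theorem finite_hom : Module.Finite ℤ (EndAV.Hom A B) := by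
  obtain ⟨l, hlp, hlk⟩ := exists_prime_ne_zero K
  haveI := Fact.mk hlp
  obtain ⟨g, hg⟩ := AbTors.exists_dim A
  obtain ⟨h, hh⟩ := AbTors.exists_dim B
  exact (finite_hom_and_rank_le (A := A) (B := B) (Ω := AlgebraicClosure K)
    (Spec.map (CommRingCat.ofHom (algebraMap K (AlgebraicClosure K)))) l hlk hg hh).1

theorem free_hom : Module.Free ℤ (EndAV.Hom A B) :=
  haveI := finite_hom (A := A) (B := B)
  Module.free_of_finite_type_torsion_free'

/-- Finitely many homomorphisms generate all. -/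
theorem exists_generators : ∃ (n : ℕ) (e : Fin n → EndAV.Hom A B),
    ∀ φ : EndAV.Hom A B, ∃ a : Fin n → ℤ, φ = ∑ i, a i • e i := by
  haveI := finite_hom (A := A) (B := B)
  obtain ⟨n, e, he⟩ := Module.Finite.exists_fin (R := ℤ) (M := EndAV.Hom A B)
  refine ⟨n, e, fun φ => ?_⟩
  obtain ⟨a, ha⟩ := (Submodule.mem_span_range_iff_exists_fun ℤ).1 (he.ge (Submodule.mem_top (x := φ)))
  exact ⟨a, ha.symm⟩

theorem toHom_sum_zsmul {n : ℕ} (e : Fin n → EndAV.Hom A B) (a : Fin n → ℤ) :
    (∑ i, a i • e i).toHom = ∏ i, (e i).toHom ^ a i := by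
  refine Additive.ofMul.injective ?_
  rw [ofMul_prod]
  show toHomLin (∑ i, a i • e i) = _
  rw [map_sum]
  refine Finset.sum_congr rfl fun i _ => ?_
  rw [map_zsmul]
  rfl

variable {Ω : Type u} [Field Ω] [IsAlgClosed Ω] (σ : Spec (CommRingCat.of Ω) ⟶ Spec (CommRingCat.of K))
  (l : ℕ) [hl : Fact l.Prime]

/-- The span of the Tate maps is saturated. -/
theorem mem_span_of_pow_smul_mem (hlK : (l : K) ≠ 0) (n : ℕ) :
    ∀ u : AbDual.TateMod A l (Over.mk σ) →ₗ[ℤ_[l]] AbDual.TateMod B l (Over.mk σ),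
      ((l : ℤ_[l]) ^ n) • u ∈ Submodule.span ℤ_[l] (Set.range (EndAV.Hom.tateMap (A := A) (B := B) l (Over.mk σ))) →
      u ∈ Submodule.span ℤ_[l] (Set.range (EndAV.Hom.tateMap (A := A) (B := B) l (Over.mk σ))) := by
  haveI := finite_hom (A := A) (B := B)
  have htop : sat (⊤ : Submodule ℤ (EndAV.Hom A B)) = ⊤ := eq_top_iff.2 (le_sat _)
  haveI : Module.Finite ℤ (sat (⊤ : Submodule ℤ (EndAV.Hom A B))) :=
    Module.Finite.equiv (LinearEquiv.ofTop _ htop).symm
  let f := Module.Free.chooseBasis ℤ (sat (⊤ : Submodule ℤ (EndAV.Hom A B)))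
  have hspan : Submodule.span ℤ_[l] (Set.range (EndAV.Hom.tateMap (A := A) (B := B) l (Over.mk σ))) =
      Submodule.span ℤ_[l] (Set.range fun i => EndAV.Hom.tateMap l (Over.mk σ) (f i : EndAV.Hom A B)) := by
    refine le_antisymm (Submodule.span_le.2 ?_) (Submodule.span_le.2 ?_)
    · rintro _ ⟨φ, rfl⟩
      have hφ := congrArg Subtype.val (f.sum_repr ⟨φ, le_sat _ Submodule.mem_top⟩)
      rw [AddSubmonoidClass.coe_finsetSum] at hφ
      rw [SetLike.mem_coe, ← show ∑ i, f.repr ⟨φ, le_sat _ Submodule.mem_top⟩ i • (f i : EndAV.Hom A B) = φ from hφ, map_sum]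
      refine Submodule.sum_mem _ fun i _ => ?_
      rw [tateHom_zsmul]
      exact Submodule.smul_mem _ _ (Submodule.subset_span ⟨i, rfl⟩)
    · rintro _ ⟨i, rfl⟩
      exact Submodule.subset_span ⟨_, rfl⟩
  simp only [hspan]
  induction n with
  | zero => intro u hu; rwa [pow_zero, one_smul] at hu
  | succ n ih =>
    intro u hu
    rw [pow_succ, mul_smul] at hu
    obtain ⟨a, ha⟩ := (Submodule.mem_span_range_iff_exists_fun ℤ_[l]).1 (ih _ hu)
    choose b hb using dvd_of_sum_eq_smul σ l hlK f a u ha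
    have : ∑ i, b i • EndAV.Hom.tateMap l (Over.mk σ) (f i : EndAV.Hom A B) = u := by
      refine LinearMap.ext fun z => sub_eq_zero.1 (AbTors.eq_zero_of_smul_eq_zero B σ l _ ?_)
      rw [← AbTors.natCast_smul_tate B σ l, smul_sub, sub_eq_zero, ← LinearMap.smul_apply, ← LinearMap.smul_apply,
        Finset.smul_sum, ← ha]
      refine congrFun (congrArg DFunLike.coe (Finset.sum_congr rfl fun i _ => ?_)) z
      rw [← mul_smul, ← hb i]
    exact (Submodule.mem_span_range_iff_exists_fun ℤ_[l]).2 ⟨b, this⟩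

variable {A : Over (Spec (CommRingCat.of K))} [GrpObj A] [IsCommMonObj A] [IsProper A.hom]
  [GeometricallyIntegral A.hom]

/-- The representation on the Tate module is injective. -/
theorem tateRep_injective (hlK : (l : K) ≠ 0) :
    Function.Injective (EndAV.End.tateRep (A := A) l (Over.mk σ)) :=
  (injective_iff_map_eq_zero _).2 fun φ hφ => EndAV.Hom.ext
    (AbTors.eq_one_of_tateMap_eq_zero σ l hlK φ.toHom fun z => LinearMap.congr_fun hφ z)

theorem map_aeval (P : Polynomial ℤ) (φ : EndAV.End A) :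
    EndAV.End.tateRep l (Over.mk σ) (Polynomial.aeval φ P) =
      Polynomial.aeval (EndAV.End.tateRep l (Over.mk σ) φ) (P.map (Int.castRingHom ℤ_[l])) := by
  induction P using Polynomial.induction_on' with
  | add p q hp hq => rw [map_add, map_add, Polynomial.map_add, map_add, hp, hq]
  | monomial n a =>
    rw [Polynomial.map_monomial, Polynomial.aeval_monomial, Polynomial.aeval_monomial, map_mul, map_pow,
      Algebra.algebraMap_eq_smul_one, Algebra.algebraMap_eq_smul_one, map_zsmul, map_one, eq_intCast,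
      Int.cast_smul_eq_zsmul]

end GrothLib.HomFG

namespace GrothLib.HomFG

open Polynomial

variable {K : Type u} [Field K] {A : Over (Spec (CommRingCat.of K))}
  [GrpObj A] [IsCommMonObj A] [IsProper A.hom] [GeometricallyIntegral A.hom]
  {Ω : Type u} [Field Ω] [IsAlgClosed Ω] (σ : Spec (CommRingCat.of Ω) ⟶ Spec (CommRingCat.of K))
  (l : ℕ) [hl : Fact l.Prime]

theorem toEnd0_injective : Function.Injective (EndAV.toEnd0 (A := A)) := by
  haveI : Module.Free ℤ (EndAV.End A) := free_hom (A := A) (B := A)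
  exact Algebra.TensorProduct.includeRight_injective (A := ℚ) (RingHom.injective_int (algebraMap ℤ ℚ))

/-- The minimal polynomial on the Tate module is integral and independent of `l`. -/
theorem exists_int_minpoly (hlK : (l : K) ≠ 0) (α : EndAV.End A) :
    ∃ P : ℤ[X], P.Monic ∧
      minpoly ℤ_[l] (EndAV.End.tateRep l (Over.mk σ) α) = P.map (Int.castRingHom ℤ_[l]) := by
  haveI : Module.Finite ℤ (EndAV.End A) := finite_hom (A := A) (B := A)
  have hint : IsIntegral ℤ α := Algebra.IsIntegral.isIntegral α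
  let x := EndAV.toEnd0 α
  let mq := minpoly ℚ x
  have hdvd : mq ∣ (minpoly ℤ α).map (algebraMap ℤ ℚ) := minpoly.dvd ℚ x (by
    rw [aeval_map_algebraMap, aeval_algHom_apply, minpoly.aeval, map_zero])
  have hμ : mq.Monic := minpoly.monic ((hint.map EndAV.toEnd0).tower_top (A := ℚ))
  obtain ⟨P, hP⟩ := IsIntegrallyClosed.eq_map_mul_C_of_dvd ℚ (minpoly.monic hint) hdvd
  rw [hμ.leadingCoeff, C_1, _root_.mul_one] at hP
  have hPm : P.Monic := monic_of_injective (RingHom.injective_int (algebraMap ℤ ℚ)) (hP ▸ hμ)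
  have hP0 : aeval α P = 0 := toEnd0_injective (A := A) (by
    rw [map_zero, ← aeval_algHom_apply, ← aeval_map_algebraMap ℚ x P, hP, minpoly.aeval])
  have hdeg : mq.natDegree = P.natDegree := by rw [← hP, hPm.natDegree_map]
  have hli : LinearIndependent ℤ fun i : Fin P.natDegree => α ^ (i : ℕ) := by
    have h1 : LinearIndependent ℚ fun i : Fin mq.natDegree => x ^ (i : ℕ) := linearIndependent_pow x
    have h2 := (h1.restrict_scalars' ℤ).comp (Fin.cast hdeg.symm) (Fin.cast_injective _)
    refine LinearIndependent.of_comp (EndAV.toEnd0 (A := A)).toLinearMap ?_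
    exact (show (⇑(EndAV.toEnd0 (A := A)).toLinearMap ∘ fun i : Fin P.natDegree => α ^ (i : ℕ)) =
      (fun i : Fin mq.natDegree => x ^ (i : ℕ)) ∘ Fin.cast hdeg.symm from _root_.funext fun i => map_pow (EndAV.toEnd0 (A := A)) α _) ▸ h2
  refine ⟨P, hPm, (minpoly.unique' _ _ (hPm.map _) ?_ fun q hq => ?_).symm⟩
  · rw [← map_aeval, hP0, map_zero]
  · by_cases hq0 : q = 0
    · exact Or.inl hq0
    refine Or.inr fun h0 => hq0 ?_
    have hqd : q.natDegree < P.natDegree := by
      have := natDegree_lt_natDegree hq0 hq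
      rwa [hPm.natDegree_map] at this
    have hT := linearIndependent_tate σ l hlK hli
    rw [Fintype.linearIndependent_iff] at hT
    have hc := hT (fun i => q.coeff i) (by
      rw [← h0, aeval_eq_sum_range' hqd, ← Fin.sum_univ_eq_sum_range]
      refine Finset.sum_congr rfl fun i _ => ?_
      rw [← map_pow]
      rfl)
    refine Polynomial.ext fun n => ?_
    rcases lt_or_ge n P.natDegree with hn | hn
    · rw [coeff_zero]; exact hc ⟨n, hn⟩
    · rw [coeff_zero]; exact coeff_eq_zero_of_natDegree_lt (hqd.trans_le hn)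

end GrothLib.HomFG
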