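import Groth.Agent.Lib.Dim.QuasiFinite
import Groth.Agent.Lib.Euler.AmpleComponents

/-!
# Curves that are not contracted
-/

universe u

open CategoryTheory CategoryTheory.Limits TopologicalSpace AlgebraicGeometry

noncomputable section

namespace GrothLib.HomFG

/-- If all points but the generic one are closed, the dimension is at most one. -/
theorem dim_le_one {X : Scheme.{u}} [IrreducibleSpace X] (h : ∀ x : X, x ≠ genericPoint X → IsClosed ({x} : Set X)) :
    topologicalKrullDim X ≤ 1 := by
  refine iSup_le fun l => ?_
  by_contra hl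
  have hl' : 2 ≤ l.length := by
    by_contra hlt
    exact hl (by exact_mod_cast (show l.length ≤ 1 by omega))
  let T₀ := l ⟨0, by omega⟩
  let T₁ := l ⟨1, by omega⟩
  let T₂ := l ⟨2, by omega⟩
  have h01 : T₀ < T₁ := l.strictMono (by simp [Fin.lt_def])
  have h12 : T₁ < T₂ := l.strictMono (by simp [Fin.lt_def])
  obtain ⟨a, ha⟩ := QuasiSober.sober T₁.isIrreducible T₁.isClosed
  have hne : a ≠ genericPoint X := by
    rintro rfl
    refine h12.not_ge fun x _ => ?_
    show x ∈ (T₁ : Set X)
    rw [← ha.def, (genericPoint_spec X).def]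
    trivial
  refine h01.not_ge fun x hx => ?_
  obtain ⟨z, hz⟩ := T₀.isIrreducible.nonempty
  have hz1 : z ∈ (T₁ : Set X) := h01.le hz
  change x ∈ (T₁ : Set X) at hx
  rw [← ha.def, (h a hne).closure_eq, Set.mem_singleton_iff] at hz1 hx
  show x ∈ (T₀ : Set X)
  rw [hx, ← hz1]
  exact hz

/-- A nonconstant proper morphism is finite on some closed curve. -/
theorem exists_curve {K : Type u} [Field K] {X Y : Scheme.{u}} (q : Y ⟶ Spec (CommRingCat.of K)) [IsProper q]
    (f : X ⟶ Y) [IsProper f] [IrreducibleSpace X] (x x' : X) (hne : f x ≠ f x') :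
    ∃ (C : Scheme.{u}) (_ : IsIntegral C) (i : C ⟶ X),
      IsClosedImmersion i ∧ topologicalKrullDim C = 1 ∧ IsFinite (i ≫ f) := by
  haveI : IsLocallyNoetherian Y := LocallyOfFiniteType.isLocallyNoetherian q
  haveI : CompactSpace Y := QuasiCompact.compactSpace_of_compactSpace q
  haveI : IsNoetherian Y := ⟨⟩
  haveI : IsLocallyNoetherian X := LocallyOfFiniteType.isLocallyNoetherian (f ≫ q)
  haveI : CompactSpace X := QuasiCompact.compactSpace_of_compactSpace (f ≫ q)
  haveI : IsNoetherian X := ⟨⟩
  let cl : ∀ {Z : Scheme.{u}}, Z → Closeds Z := fun {Z} z => ⟨closure {z}, isClosed_closure⟩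
  -- a point of the image with a one-dimensional closure
  let N : Set (Closeds Y) := {T | ∃ y ∈ Set.range f, ¬ IsClosed ({y} : Set Y) ∧ T = cl y}
  have hN : N.Nonempty := by
    refine ⟨_, f (genericPoint X), ⟨_, rfl⟩, fun hc => hne ?_, rfl⟩
    have hall : ∀ z, f z = f (genericPoint X) := fun z => by
      have h1 := ((genericPoint_spec X).specializes (Set.mem_univ z)).map f.continuous
      exact hc.closure_eq.le h1.mem_closure
    rw [hall x, hall x']
  obtain ⟨T, ⟨y, hy, hyc, rfl⟩, hmin⟩ := (wellFounded_lt (α := Closeds Y)).has_min N hN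
  have hspec : ∀ z : Y, y ⤳ z → z ≠ y → IsClosed ({z} : Set Y) := by
    intro z hz hzy
    by_contra hzc
    refine hmin (cl z) ⟨z, f.isClosedMap.isClosed_range.closure_subset_iff.2 (Set.singleton_subset_iff.2 hy) hz.mem_closure, hzc, rfl⟩ ?_
    refine lt_of_le_of_ne (closure_minimal (Set.singleton_subset_iff.2 hz.mem_closure) isClosed_closure) fun he => hzy ?_
    have hy' : y ∈ closure ({z} : Set Y) := by
      show y ∈ (cl z : Set Y)
      rw [he]; exact subset_closure rfl
    exact (hz.antisymm (specializes_iff_mem_closure.2 hy')).eq.symm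
  -- a point over it closed in its fibre
  let N' : Set (Closeds X) := {T | ∃ η, f η = y ∧ T = cl η}
  obtain ⟨T', ⟨η, hη, rfl⟩, hmin'⟩ := (wellFounded_lt (α := Closeds X)).has_min N'
    (by obtain ⟨η, hη⟩ := hy; exact ⟨_, η, hη, rfl⟩)
  let IC := Scheme.IdealSheafData.vanishingIdeal (cl η)
  let ID := Scheme.IdealSheafData.vanishingIdeal (cl y)
  have hrC : Set.range IC.subschemeι = closure {η} := RedSub.range_subschemeι_vanishingIdeal _
  have hrD : Set.range ID.subschemeι = closure {y} := RedSub.range_subschemeι_vanishingIdeal _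
  haveI : IsIntegral IC.subscheme := Euler.isIntegral_vanishingIdeal _ isIrreducible_singleton.closure
  haveI : IsIntegral ID.subscheme := Euler.isIntegral_vanishingIdeal _ isIrreducible_singleton.closure
  have hgen : ∀ {Z : Scheme.{u}} (T : Scheme.{u}) [IrreducibleSpace T] (j : T ⟶ Z) [IsClosedImmersion j] (z : Z),
      Set.range j = closure {z} → j (genericPoint T) = z := fun T _ j _ z hr => by
    refine IsGenericPoint.eq ?_ (isGenericPoint_closure (x := z))
    show closure {j (genericPoint T)} = closure {z}
    rw [← hr, ← Set.image_singleton, j.isClosedEmbedding.closure_image_eq, (genericPoint_spec T).def, Set.image_univ]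
  have hgC := hgen IC.subscheme IC.subschemeι η hrC
  have hgD := hgen ID.subscheme ID.subschemeι y hrD
  have hfC : ∀ c, y ⤳ f (IC.subschemeι c) := fun c => by
    rw [← hη, ← hgC]
    exact ((genericPoint_spec IC.subscheme).specializes (Set.mem_univ c)).map
      (f.continuous.comp IC.subschemeι.continuous)
  -- over the closed points lie closed points
  obtain ⟨g, hg⟩ := RedSub.exists_lift (IC.subschemeι ≫ f) ID.subschemeι (by
    rw [hrD]
    rintro _ ⟨c, rfl⟩
    exact (hfC c).mem_closure)
  have hgy : ∀ c, g c = genericPoint ID.subscheme ↔ c = genericPoint IC.subscheme := by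
    intro c
    have e1 : ID.subschemeι (g c) = f (IC.subschemeι c) := by
      rw [← Scheme.Hom.comp_apply, hg, Scheme.Hom.comp_apply]
    constructor
    · intro h
      rw [h, hgD] at e1
      refine IC.subschemeι.isClosedEmbedding.injective ?_
      rw [hgC]
      by_contra hne'
      have hsub : IC.subschemeι c ∈ closure ({η} : Set X) := hrC.le ⟨c, rfl⟩
      refine hmin' (cl (IC.subschemeι c)) ⟨_, e1.symm, rfl⟩ ?_
      refine lt_of_le_of_ne (closure_minimal (Set.singleton_subset_iff.2 hsub) isClosed_closure) fun he => hne' ?_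
      have hη' : η ∈ closure ({IC.subschemeι c} : Set X) := by
        show η ∈ (cl (IC.subschemeι c) : Set X)
        rw [he]; exact subset_closure rfl
      exact ((specializes_iff_mem_closure.2 hη').antisymm (specializes_iff_mem_closure.2 hsub)).eq
    · rintro rfl
      refine ID.subschemeι.isClosedEmbedding.injective ?_
      rw [e1, hgC, hη, hgD]
  haveI : IsDominant g := ⟨fun z => by
    have h : z ∈ closure ({g (genericPoint IC.subscheme)} : Set ID.subscheme) := by
      rw [(hgy _).2 rfl, (genericPoint_spec ID.subscheme).def]; trivial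
    exact closure_mono (Set.singleton_subset_iff.2 (Set.mem_range_self _)) h⟩
  haveI : LocallyOfFiniteType g := by
    have : LocallyOfFiniteType (g ≫ ID.subschemeι) := by rw [hg]; infer_instance
    exact locallyOfFiniteType_of_comp g ID.subschemeι
  obtain ⟨n, m, e, hn, hm, he, hnme⟩ := Dim.exists_dim_genericFibre g (ID.subschemeι ≫ q)
  have he0 : e = 0 := by
    haveI : Subsingleton (g ⁻¹' {genericPoint ID.subscheme} : Set IC.subscheme) :=
      ⟨fun a b => Subtype.ext (((hgy _).1 a.2).trans ((hgy _).1 b.2).symm)⟩
    have h0 := topologicalKrullDim_zero_of_discreteTopology (g ⁻¹' {genericPoint ID.subscheme} : Set IC.subscheme)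
    rw [he] at h0
    exact Nat.le_zero.1 (by exact_mod_cast h0)
  have hm1 : m ≤ 1 := by
    have h := dim_le_one (X := ID.subscheme) fun z hz => by
      have h1 : IsClosed ({ID.subschemeι z} : Set Y) := hspec _
        (by rw [← hgD]; exact ((genericPoint_spec ID.subscheme).specializes (Set.mem_univ z)).map ID.subschemeι.continuous)
        (fun h => hz (ID.subschemeι.isClosedEmbedding.injective (h.trans hgD.symm)))
      rw [← ID.subschemeι.isClosedEmbedding.injective.preimage_image {z}, Set.image_singleton]
      exact h1.preimage ID.subschemeι.continuous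
    rw [hm] at h
    exact_mod_cast h
  have hm0 : m ≠ 0 := by
    rintro rfl
    refine hyc ?_
    have hs := Dim.subsingleton_of_dim_eq_zero (isClosed_closure (s := ({y} : Set Y))) isIrreducible_singleton.closure (by
      rw [← hrD, ← Euler.homeomorph_range_dim ID.subschemeι rfl, hm]; rfl)
    rw [show ({y} : Set Y) = closure {y} from Set.Subset.antisymm subset_closure fun z hz => hs hz (subset_closure rfl)]
    exact isClosed_closure
  have hC1 : topologicalKrullDim IC.subscheme = 1 := by
    rw [hn, hnme, show m = 1 by omega, he0]; rfl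
  refine ⟨IC.subscheme, inferInstance, IC.subschemeι, inferInstance, hC1, ?_⟩
  have hCcl : ∀ c : IC.subscheme, c ≠ genericPoint IC.subscheme → IsClosed ({c} : Set IC.subscheme) := by
    intro c hc
    by_contra hcc
    obtain ⟨c', hc', hne'⟩ : ∃ c', c' ∈ closure ({c} : Set IC.subscheme) ∧ c' ≠ c := by
      by_contra hall
      push_neg at hall
      refine hcc ?_
      rw [show ({c} : Set IC.subscheme) = closure {c} from Set.Subset.antisymm subset_closure fun z hz => hall z hz]
      exact isClosed_closure
    let T0 : IrreducibleCloseds IC.subscheme :=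
      ⟨closure {c'}, isIrreducible_singleton.closure, isClosed_closure⟩
    let T1 : IrreducibleCloseds IC.subscheme :=
      ⟨closure {c}, isIrreducible_singleton.closure, isClosed_closure⟩
    let T2 : IrreducibleCloseds IC.subscheme :=
      ⟨closure {genericPoint IC.subscheme}, isIrreducible_singleton.closure, isClosed_closure⟩
    have h01 : T0 < T1 := lt_of_le_of_ne (closure_minimal (Set.singleton_subset_iff.2 hc') isClosed_closure)
      fun h => hne' ((isGenericPoint_closure (x := c')).eq
        (show IsGenericPoint c (closure {c'}) from (congrArg IrreducibleCloseds.carrier h).symm))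
    have h12 : T1 < T2 := lt_of_le_of_ne (closure_minimal (Set.singleton_subset_iff.2
        ((genericPoint_spec IC.subscheme).def.ge (Set.mem_univ c))) isClosed_closure)
      fun h => hc ((isGenericPoint_closure (x := c)).eq
        (show IsGenericPoint (genericPoint IC.subscheme) (closure {c}) from (congrArg IrreducibleCloseds.carrier h).symm))
    let l0 : LTSeries (IrreducibleCloseds IC.subscheme) := RelSeries.singleton _ T0
    let l1 : LTSeries (IrreducibleCloseds IC.subscheme) := l0.snoc T1 h01
    let l2 : LTSeries (IrreducibleCloseds IC.subscheme) :=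
      l1.snoc T2 (show l1.last < T2 by rw [show l1.last = T1 from RelSeries.last_snoc _ _ _]; exact h12)
    have hle : (l2.length : WithBot ℕ∞) ≤ topologicalKrullDim IC.subscheme :=
      le_iSup (fun L : LTSeries (IrreducibleCloseds IC.subscheme) => (L.length : WithBot ℕ∞)) _
    rw [hC1, show l2.length = 2 from rfl] at hle
    norm_num at hle
  haveI : IsNoetherian IC.subscheme := by
    haveI : IsLocallyNoetherian IC.subscheme := LocallyOfFiniteType.isLocallyNoetherian IC.subschemeι
    haveI : CompactSpace IC.subscheme := IC.subschemeι.isClosedEmbedding.compactSpace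
    exact ⟨⟩
  haveI : IsProper (IC.subschemeι ≫ f) := inferInstance
  haveI : LocallyQuasiFinite (IC.subschemeι ≫ f) := .of_finite_preimage_singleton _ fun z => by
    by_cases hz : z = y
    · subst hz
      refine (Set.finite_singleton (genericPoint IC.subscheme)).subset fun c hc => (hgy c).1 ?_
      refine ID.subschemeι.isClosedEmbedding.injective ?_
      rw [← Scheme.Hom.comp_apply, hg, hgD]
      exact hc
    · set S := (IC.subschemeι ≫ f) ⁻¹' {z}
      rcases S.eq_empty_or_nonempty with hS | ⟨c₀, hc₀⟩
      · rw [hS]; exact Set.finite_empty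
      have hzc : IsClosed ({z} : Set Y) := hspec z (by
        rw [← show (IC.subschemeι ≫ f) c₀ = z from hc₀, Scheme.Hom.comp_apply]; exact hfC c₀) hz
      have hSc : IsClosed S := hzc.preimage (IC.subschemeι ≫ f).continuous
      obtain ⟨F, hF, hFc, hFi, hFu⟩ :=
        TopologicalSpace.NoetherianSpace.exists_finite_set_isClosed_irreducible hSc
      rw [hFu, Set.sUnion_eq_biUnion]
      refine hF.biUnion fun V hV => ?_
      obtain ⟨a, ha⟩ := QuasiSober.sober (hFi V hV) (hFc V hV)
      have haS : a ∈ S := hFu ▸ Set.subset_sUnion_of_mem hV ha.mem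
      have hne' : a ≠ genericPoint IC.subscheme := by
        rintro rfl
        apply hz
        rw [← show (IC.subschemeι ≫ f) (genericPoint IC.subscheme) = z from haS, Scheme.Hom.comp_apply, hgC, hη]
      rw [← ha.def, (hCcl a hne').closure_eq]
      exact Set.finite_singleton a
  exact IsFinite.of_isProper_of_locallyQuasiFinite _

end GrothLib.HomFG
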