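import Mathlib.LinearAlgebra.Finsupp.LinearCombination
import Mathlib.LinearAlgebra.Dimension.Constructions
import Mathlib.RingTheory.Noetherian.Basic
import Mathlib.Algebra.Module.ZMod
import Mathlib.LinearAlgebra.Dimension.Finite
import Mathlib.RingTheory.PrincipalIdealDomain
import Mathlib.Algebra.EuclideanDomain.Int
import Mathlib.LinearAlgebra.FiniteDimensional.Basic

/-!
# Saturations in groups with anisotropic integral forms
-/

universe u v

namespace GrothLib.HomFG

variable {G : Type u} [AddCommGroup G]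

/-- The elements with a nonzero multiple in `N`. -/
def sat (N : Submodule ℤ G) : Submodule ℤ G where
  carrier := {x | ∃ m : ℤ, m ≠ 0 ∧ m • x ∈ N}
  zero_mem' := ⟨1, one_ne_zero, by rw [smul_zero]; exact N.zero_mem⟩
  add_mem' := by
    rintro x y ⟨a, ha, hx⟩ ⟨b, hb, hy⟩
    refine ⟨a * b, mul_ne_zero ha hb, ?_⟩
    rw [smul_add]
    refine N.add_mem ?_ ?_
    · rw [mul_comm, mul_smul]; exact N.smul_mem _ hx
    · rw [mul_smul]; exact N.smul_mem _ hy
  smul_mem' := by
    rintro c x ⟨a, ha, hx⟩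
    exact ⟨a, ha, by rw [smul_comm]; exact N.smul_mem _ hx⟩

theorem mem_sat {N : Submodule ℤ G} {x : G} : x ∈ sat N ↔ ∃ m : ℤ, m ≠ 0 ∧ m • x ∈ N := Iff.rfl

theorem le_sat (N : Submodule ℤ G) : N ≤ sat N := fun x hx => ⟨1, one_ne_zero, by rwa [one_smul]⟩

/-- With enough integral forms, anisotropic on every element, saturations of finite sets are finitely generated. -/
theorem finite_sat {J : Type v} (β : J → G →ₗ[ℤ] G →ₗ[ℤ] ℤ) (hpos : ∀ x : G, x ≠ 0 → ∃ j, β j x x ≠ 0) {n : ℕ}
    (e : Fin n → G) : Module.Finite ℤ (sat (Submodule.span ℤ (Set.range e))) := by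
  classical
  let w : J × Fin n → (Fin n → ℚ) := fun p l => (β p.1 (e l) (e p.2) : ℚ)
  obtain ⟨b, hb, hspan, hli⟩ := exists_linearIndependent ℚ (Set.range w)
  haveI : Finite b := hli.setFinite.to_subtype
  choose p hp using fun v : b => hb v.2
  let Φ : sat (Submodule.span ℤ (Set.range e)) →ₗ[ℤ] (b → ℤ) :=
    LinearMap.pi fun v => ((β (p v).1).flip (e (p v).2)).comp (Submodule.subtype _)
  refine Module.Finite.of_injective Φ ((injective_iff_map_eq_zero Φ).2 fun x hx => ?_)
  obtain ⟨x, m, hm, hmx⟩ := x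
  obtain ⟨c, hc⟩ := (Submodule.mem_span_range_iff_exists_fun ℤ).1 hmx
  let lam : (Fin n → ℚ) →ₗ[ℚ] ℚ :=
    { toFun := fun f => ∑ l, (c l : ℚ) * f l
      map_add' := fun f g => by simp [mul_add, Finset.sum_add_distrib]
      map_smul' := fun a f => by simp [Finset.mul_sum, mul_left_comm] }
  have key : ∀ q : J × Fin n, lam (w q) = ((β q.1 (m • x) (e q.2) : ℤ) : ℚ) := fun q => by
    rw [← hc]
    simp [lam, w, map_sum, map_smul, LinearMap.sum_apply]
  have h0 : ∀ f ∈ Submodule.span ℚ b, lam f = 0 := fun f hf => by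
    refine Submodule.span_induction (fun g hg => ?_) (map_zero _) (fun g h _ _ hg hh => by rw [map_add, hg, hh, add_zero])
      (fun a g _ hg => by rw [map_smul, hg, smul_zero]) hf
    have h1 : (β (p ⟨g, hg⟩).1 x) (e (p ⟨g, hg⟩).2) = 0 := congrFun hx ⟨g, hg⟩
    rw [← show w (p ⟨g, hg⟩) = g from hp ⟨g, hg⟩, key, map_smul, LinearMap.smul_apply, h1, smul_zero, Int.cast_zero]
  have h1 : ∀ j i, β j (m • x) (e i) = 0 := fun j i => by
    have := h0 (w (j, i)) (hspan ▸ Submodule.subset_span ⟨(j, i), rfl⟩)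
    rw [key] at this
    exact_mod_cast this
  refine Subtype.ext ?_
  show x = 0
  by_contra hne
  obtain ⟨j, hj⟩ := hpos x hne
  have h2 : ∀ i, β j x (e i) = 0 := fun i => by
    have h := h1 j i
    rw [map_smul, LinearMap.smul_apply, smul_eq_mul] at h
    exact (mul_eq_zero.1 h).resolve_left hm
  have h3 : β j x (m • x) = 0 := by
    rw [← hc, map_sum]
    simp [map_smul, h2]
  rw [map_smul, smul_eq_mul] at h3
  exact hj ((mul_eq_zero.1 h3).resolve_left hm)

end GrothLib.HomFG
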