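import Groth.Agent.Lib.HomFG.Abstract
import Groth.Agent.Lib.HomFG.Curve
import Groth.Agent.Lib.AbTors.Kill
import Groth.Agent.Lib.CurveMult.DegHom
import Groth.Agent.Lib.Ample.RelAmple
import Groth.Prelude.Def_EndRing

/-!
# Degree forms on homomorphisms of abelian varieties
-/

universe u

open CategoryTheory CategoryTheory.Limits MonoidalCategory CartesianMonoidalCategory AlgebraicGeometry
open scoped MonObj
open GrothLib.Cube

set_option backward.isDefEq.respectTransparency false

noncomputable section

namespace GrothLib.HomFG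

variable {K : Type u} [Field K]

/-- The degree of a class on a curve. -/
def degPic {C : Scheme.{u}} (p : C ⟶ Spec (CommRingCat.of K)) (x : Pic C) : ℤ :=
  @Curv2.deg K _ C ⟨p⟩ ((Quotient.out x).twist 1) 1

variable {C : Scheme.{u}} (p : C ⟶ Spec (CommRingCat.of K)) [IsProper p] [IsIntegral C]

omit [IsProper p] [IsIntegral C] in
theorem degPic_clsMod {L : C.Modules} (hL : PicF.IsInvertible L) :
    degPic p (clsMod hL) = @Curv2.deg K _ C ⟨p⟩ L 1 := by
  letI : C.Over (Spec (CommRingCat.of K)) := ⟨p⟩
  obtain ⟨e⟩ := (clsMod_eq_iff ((Quotient.out (clsMod hL)).isInvertible_twist 1) hL).1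
    ((clsMod_eq _ (Iso.refl _)).trans (Quotient.out_eq _))
  exact Euler.deg_of_iso K e 1

theorem degPic_mul (hd : topologicalKrullDim C ≤ 1) (x y : Pic C) : degPic p (x * y) = degPic p x + degPic p y := by
  letI : C.Over (Spec (CommRingCat.of K)) := ⟨p⟩
  haveI : IsProper (C ↘ Spec (CommRingCat.of K)) := ‹IsProper p›
  have hx := (Quotient.out x).isInvertible_twist 1
  have hy := (Quotient.out y).isInvertible_twist 1
  have e : x * y = clsMod (Ample.isInvertible_tensorMod hx hy) := by
    rw [clsMod_tensorMod hx hy, clsMod_eq hx (Iso.refl _), clsMod_eq hy (Iso.refl _)]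
    exact (congrArg₂ (fun a b : Pic C => a * b) (Quotient.out_eq x) (Quotient.out_eq y)).symm
  rw [e, degPic_clsMod]
  exact CurveMult.deg_tensorMod K hd hx hy

variable {A B : Over (Spec (CommRingCat.of K))} [GrpObj B] [IsCommMonObj B]

/-- The symmetrised degree of the pullback of a class along morphisms restricted to a curve. -/
def form (i : C ⟶ A.left) (y : Pic B.left) (f g : A ⟶ B) : ℤ :=
  degPic p (pull i (pull (f * g).left y)) - degPic p (pull i (pull f.left y)) - degPic p (pull i (pull g.left y))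

omit [IsProper p] [IsIntegral C] in
theorem form_comm (i : C ⟶ A.left) (y : Pic B.left) (f g : A ⟶ B) : form p i y f g = form p i y g f := by
  rw [form, form, mul_comm f g]
  ring

variable [IsProper B.hom] [GeometricallyIntegral B.hom]

theorem form_mul (hd : topologicalKrullDim C ≤ 1) (i : C ⟶ A.left) (y : Pic B.left) (f g h : A ⟶ B) :
    form p i y (f * g) h = form p i y f h + form p i y g h := by
  have hc := cubeClass_eq_one f g h y
  rw [cubeClass, mul_inv_eq_one] at hc
  have h2 := congrArg (fun z => degPic p (pull i z)) hc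
  simp only [map_mul, degPic_mul p hd] at h2
  simp only [form]
  linear_combination h2

/-- The form as a bilinear map on a group of morphisms. -/
def formHom (hd : topologicalKrullDim C ≤ 1) {G : Type u} [AddCommGroup G] (ρ : G →+ Additive (A ⟶ B))
    (i : C ⟶ A.left) (y : Pic B.left) : G →ₗ[ℤ] G →ₗ[ℤ] ℤ :=
  (AddMonoidHom.mk'
    (fun a => (AddMonoidHom.mk' (fun b => form p i y (ρ a).toMul (ρ b).toMul) (fun b c => by
      rw [map_add, toMul_add, form_comm, form_mul p hd, form_comm p i y (ρ b).toMul, form_comm p i y (ρ c).toMul]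
      )).toIntLinearMap)
    (fun a a' => LinearMap.ext fun b => by
      show form p i y (ρ (a + a')).toMul (ρ b).toMul = _
      rw [map_add, toMul_add, form_mul p hd]
      rfl)).toIntLinearMap

theorem formHom_apply (hd : topologicalKrullDim C ≤ 1) {G : Type u} [AddCommGroup G] (ρ : G →+ Additive (A ⟶ B))
    (i : C ⟶ A.left) (y : Pic B.left) (a b : G) :
    formHom p hd ρ i y a b = form p i y (ρ a).toMul (ρ b).toMul := rfl

/-- Over an algebraically closed field a nontrivial homomorphism has a nonzero form on some curve. -/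
theorem exists_form_ne_zero [IsAlgClosed K] [GrpObj A] [IsProper A.hom] [GeometricallyIntegral A.hom] (f : A ⟶ B) [IsMonHom f] (hf : f ≠ 1)
    {L : B.left.Modules} (hL : CohB1.IsAmple L) (hsym : pull (𝟙 B)⁻¹.left (clsMod hL.1) = clsMod hL.1) :
    ∃ (C : Scheme.{u}) (_ : IsIntegral C) (i : C ⟶ A.left) (_ : IsProper (i ≫ A.hom)),
      topologicalKrullDim C ≤ 1 ∧ form (i ≫ A.hom) i (clsMod hL.1) f f ≠ 0 := by
  haveI : IsIntegral A.left := GeometricallyIntegral.isIntegral_of_subsingleton A.hom
  let a₀ := η[A].left (IsLocalRing.closedPoint K)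
  obtain ⟨x, hx⟩ : ∃ x, f.left x ≠ f.left a₀ := by
    by_contra hall
    push_neg at hall
    haveI : LocallyOfFiniteType (f.left ≫ B.hom) := by rw [Over.w]; infer_instance
    refine hf (Over.OverMorphism.ext (ext_of_apply_eq B.hom Set.univ isOpen_univ.isLocallyClosed dense_univ
      (fun x _ _ => ?_) ((Over.w f).trans (Over.w (1 : A ⟶ B)).symm)))
    rw [hall x, Hom.one_def, Over.comp_left, Scheme.Hom.comp_apply,
      Subsingleton.elim (α := ↥(Spec (CommRingCat.of K))) ((toUnit A).left x) (IsLocalRing.closedPoint K),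
      ← Scheme.Hom.comp_apply, ← Over.comp_left, IsMonHom.one_hom f]
  haveI : IsProper f.left := by
    have : IsProper (f.left ≫ B.hom) := by rw [Over.w]; infer_instance
    exact IsProper.of_comp f.left B.hom
  obtain ⟨C, hC, i, hi, hdim, hfin⟩ := exists_curve B.hom f.left x a₀ hx
  haveI := hi
  haveI := hfin
  haveI hp : IsProper (i ≫ A.hom) := inferInstance
  refine ⟨C, hC, i, hp, hdim.le, ?_⟩
  letI : C.Over (Spec (CommRingCat.of K)) := ⟨i ≫ A.hom⟩
  haveI : IsProper (C ↘ Spec (CommRingCat.of K)) := hp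
  have hamp := Ample.isAmple_pullback_of_isAffineHom (i ≫ f.left) hL
  have hpos : 0 < degPic (i ≫ A.hom) (pull i (pull f.left (clsMod hL.1))) := by
    rw [pull_comp, ← clsMod_pullback _ hL.1, degPic_clsMod]
    exact (Euler.isAmple_iff_deg_pos K hdim hamp.1).1 hamp
  have h4 : pull (f * f).left (clsMod hL.1) = pull f.left (clsMod hL.1) ^ (2 ^ 2) := by
    rw [← pow_two, show f ^ 2 = f ≫ ((𝟙 B : B ⟶ B) ^ 2) by rw [MonObj.comp_pow, Category.comp_id],
      ← pull_pull_over, pull_pow_of_symmetric hsym, map_pow]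
  have hd := hdim.le
  rw [form, h4, show (2 : ℕ) ^ 2 = 1 + 1 + 1 + 1 from rfl, pow_add, pow_add, pow_add, pow_one]
  simp only [map_mul, degPic_mul (i ≫ A.hom) hd]
  omega

end GrothLib.HomFG
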