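import Groth.Agent.Lib.HomFG.Form

/-!
# Saturations of finitely generated groups of homomorphisms are finitely generated
-/

universe u

open CategoryTheory CategoryTheory.Limits MonoidalCategory CartesianMonoidalCategory AlgebraicGeometry
open scoped MonObj
open GrothLib.Cube

set_option backward.isDefEq.respectTransparency false

noncomputable section

namespace GrothLib.HomFG

variable {K : Type u} [Field K] {A B : Over (Spec (CommRingCat.of K))}

attribute [local instance] Functor.monObjObj Functor.grpObjObj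

theorem isMonHom_map {L : Type u} [Field L] (σ : Spec (CommRingCat.of L) ⟶ Spec (CommRingCat.of K)) [GrpObj A]
    [GrpObj B] (f : A ⟶ B) [IsMonHom f] : IsMonHom ((Over.pullback σ).map f) :=
  ((Over.pullback σ).mapMon.map (Mon.Hom.mk' (M := Mon.mk A) (N := Mon.mk B) f)).isMonHom_hom

theorem map_pullback_injective {L : Type u} [Field L] (σ : Spec (CommRingCat.of L) ⟶ Spec (CommRingCat.of K))
    {f g : A ⟶ B} (h : (Over.pullback σ).map f = (Over.pullback σ).map g) : f = g := by
  haveI := AbTors.flat_of_field σ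
  haveI := AbTors.surjective_of_field σ
  haveI : Epi (pullback.fst A.hom σ) := Flat.epi_of_flat_of_surjective _
  ext1
  rw [← cancel_epi (pullback.fst A.hom σ)]
  have := congrArg (fun g => g.left ≫ pullback.fst B.hom σ) h
  simpa only [Over.pullback_map_left, pullback.lift_fst] using this

/-- A curve on a scheme over a field. -/
structure Crv (X : Over (Spec (CommRingCat.of K))) where
  C : Scheme.{u}
  isInt : IsIntegral C
  i : C ⟶ X.left
  isProper : IsProper (i ≫ X.hom)
  dim : topologicalKrullDim C ≤ 1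

variable [GrpObj A] [IsCommMonObj A] [IsProper A.hom] [GeometricallyIntegral A.hom]
  [GrpObj B] [IsCommMonObj B] [IsProper B.hom] [GeometricallyIntegral B.hom]

/-- Integral forms on homomorphisms, anisotropic on every homomorphism. -/
theorem exists_forms : ∃ (J : Type (u + 1)) (β : J → EndAV.Hom A B →ₗ[ℤ] EndAV.Hom A B →ₗ[ℤ] ℤ),
    ∀ φ : EndAV.Hom A B, φ ≠ 0 → ∃ j, β j φ φ ≠ 0 := by
  let σ : Spec (CommRingCat.of (AlgebraicClosure K)) ⟶ Spec (CommRingCat.of K) :=
    Spec.map (CommRingCat.ofHom (algebraMap K (AlgebraicClosure K)))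
  let P := Over.pullback σ
  haveI : IsCommMonObj (P.obj B) := Functor.isCommMonObj_obj
  haveI : IsProper (P.obj A).hom := inferInstanceAs (IsProper (pullback.snd A.hom σ))
  haveI : GeometricallyIntegral (P.obj A).hom := inferInstanceAs (GeometricallyIntegral (pullback.snd A.hom σ))
  haveI : IsProper (P.obj B).hom := inferInstanceAs (IsProper (pullback.snd B.hom σ))
  haveI : GeometricallyIntegral (P.obj B).hom := inferInstanceAs (GeometricallyIntegral (pullback.snd B.hom σ))
  obtain ⟨L, hL, ⟨esym⟩⟩ := exists_symmetric_isAmple (P.obj B)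
  have hsym : pull (𝟙 (P.obj B))⁻¹.left (clsMod hL.1) = clsMod hL.1 := by
    rw [← clsMod_pullback _ hL.1]
    exact (clsMod_eq_iff _ hL.1).2 ⟨esym.symm⟩
  let ρ : EndAV.Hom A B →+ Additive (P.obj A ⟶ P.obj B) :=
    AddMonoidHom.mk' (fun φ => Additive.ofMul (P.map φ.toHom)) fun φ ψ => by
      rw [EndAV.Hom.toHom_add, Functor.map_mul]
      rfl
  refine ⟨Crv (P.obj A), fun j => @formHom (AlgebraicClosure K) _ j.C (j.i ≫ (P.obj A).hom) j.isProper j.isInt
    (P.obj A) (P.obj B) _ _ _ _ j.dim _ _ ρ j.i (clsMod hL.1), fun φ hφ => ?_⟩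
  haveI := isMonHom_map σ φ.toHom
  obtain ⟨C, hC, i, hi, hd, hne⟩ := exists_form_ne_zero (P.map φ.toHom) (fun h => hφ (EndAV.Hom.ext
    (map_pullback_injective σ (h.trans (Functor.map_one P).symm)))) hL hsym
  exact ⟨⟨C, hC, i, hi, hd⟩, hne⟩

instance instIsTorsionFree : Module.IsTorsionFree ℤ (EndAV.Hom A B) := by
  refine .mk fun m hm x y hxy => ?_
  obtain ⟨J, β, hβ⟩ := exists_forms (A := A) (B := B)
  by_contra hne
  obtain ⟨j, hj⟩ := hβ (x - y) (sub_ne_zero.2 hne)
  have h0 : m • (x - y) = 0 := by rw [smul_sub, sub_eq_zero]; exact hxy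
  have h1 : β j (m • (x - y)) (x - y) = 0 := by rw [h0, map_zero, LinearMap.zero_apply]
  rw [map_smul, LinearMap.smul_apply, smul_eq_mul] at h1
  exact hj ((mul_eq_zero.1 h1).resolve_left hm.ne_zero)

/-- The saturation of a finitely generated group of homomorphisms is finitely generated. -/
theorem finite_sat_hom {n : ℕ} (e : Fin n → EndAV.Hom A B) :
    Module.Finite ℤ (sat (Submodule.span ℤ (Set.range e))) := by
  obtain ⟨J, β, hβ⟩ := exists_forms (A := A) (B := B)
  exact finite_sat β hβ e

end GrothLib.HomFG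

namespace GrothLib.HomFG

variable {K : Type u} [Field K] {A B : Over (Spec (CommRingCat.of K))} [GrpObj A] [IsCommMonObj A]
  [GrpObj B] [IsCommMonObj B]

/-- The underlying morphism, additively. -/
def toHomLin : EndAV.Hom A B →ₗ[ℤ] Additive (A ⟶ B) :=
  (AddMonoidHom.mk' (fun φ : EndAV.Hom A B => Additive.ofMul φ.toHom) fun _ _ => rfl).toIntLinearMap

theorem toHomLin_injective : Function.Injective (toHomLin (A := A) (B := B)) :=
  fun _ _ h => EndAV.Hom.ext (congrArg Additive.toMul h)

theorem linearIndependent_of {ι' : Type*} (e : ι' → (A ⟶ B)) [∀ i, IsMonHom (e i)]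
    (he : LinearIndependent ℤ fun i => Additive.ofMul (e i)) : LinearIndependent ℤ fun i => EndAV.Hom.of (e i) :=
  LinearIndependent.of_comp toHomLin he

end GrothLib.HomFG
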