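import Groth.Agent.Lib.HomFG.Main
import Groth.Agent.Lib.AbTors.Descend
import Groth.Prelude.Def_EndTate
import Mathlib.LinearAlgebra.Matrix.StdBasis
import Mathlib.LinearAlgebra.Dimension.StrongRankCondition
import Mathlib.LinearAlgebra.FreeModule.Finite.Matrix

/-!
# Homomorphisms of abelian varieties and their Tate modules
-/

universe u

open CategoryTheory CategoryTheory.Limits MonoidalCategory CartesianMonoidalCategory AlgebraicGeometry
open scoped MonObj

set_option backward.isDefEq.respectTransparency false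

noncomputable section

namespace GrothLib.HomFG

open AbDual AbTors

variable {K : Type u} [Field K] {A B : Over (Spec (CommRingCat.of K))}
  [GrpObj A] [IsCommMonObj A] [IsProper A.hom] [GeometricallyIntegral A.hom]
  [GrpObj B] [IsCommMonObj B] [IsProper B.hom] [GeometricallyIntegral B.hom]
  {Ω : Type u} [Field Ω] [IsAlgClosed Ω] (σ : Spec (CommRingCat.of Ω) ⟶ Spec (CommRingCat.of K))
  (l : ℕ) [hl : Fact l.Prime]

theorem tateHom_zsmul (m : ℤ) (φ : EndAV.Hom A B) :
    EndAV.Hom.tateMap l (Over.mk σ) (m • φ) = (m : ℤ_[l]) • EndAV.Hom.tateMap l (Over.mk σ) φ := by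
  rw [map_zsmul, Int.cast_smul_eq_zsmul]

theorem exists_eq_smul (hlK : (l : K) ≠ 0) {φ : EndAV.Hom A B}
    {u : TateMod A l (Over.mk σ) →ₗ[ℤ_[l]] TateMod B l (Over.mk σ)}
    (h : EndAV.Hom.tateMap l (Over.mk σ) φ = (l : ℤ_[l]) • u) : ∃ ψ : EndAV.Hom A B, φ = (l : ℤ) • ψ := by
  obtain ⟨f', hf', he⟩ := exists_eq_pow_comp_of_tateMap_eq_smul σ l hlK φ.toHom 1 u (by rw [pow_one]; exact h)
  haveI := hf'
  refine ⟨EndAV.Hom.of f', EndAV.Hom.ext ?_⟩
  rw [EndAV.Hom.toHom_zsmul, zpow_natCast, EndAV.Hom.toHom_of, he, pow_one, MonObj.pow_comp, Category.id_comp]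

theorem sat_saturated {N : Submodule ℤ (EndAV.Hom A B)} {m : ℤ} (hm : m ≠ 0) {ψ : EndAV.Hom A B}
    (h : m • ψ ∈ sat N) : ψ ∈ sat N := by
  obtain ⟨a, ha, h⟩ := h
  exact ⟨a * m, mul_ne_zero ha hm, by rwa [mul_smul]⟩

/-- Coefficients of an `l`-divisible combination are `l`-divisible. -/
theorem dvd_of_sum_eq_smul (hlK : (l : K) ≠ 0) {N : Submodule ℤ (EndAV.Hom A B)} {J : Type*} [Fintype J]
    (f : Module.Basis J ℤ (sat N)) (a : J → ℤ_[l])
    (u : TateMod A l (Over.mk σ) →ₗ[ℤ_[l]] TateMod B l (Over.mk σ))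
    (h : ∑ i, a i • EndAV.Hom.tateMap l (Over.mk σ) (f i : EndAV.Hom A B) = (l : ℤ_[l]) • u) :
    ∀ i, (l : ℤ_[l]) ∣ a i := by
  let b : J → ℕ := fun i => (PadicInt.toZMod (a i)).val
  have hb : ∀ i, (l : ℤ_[l]) ∣ a i - (b i : ℤ_[l]) := fun i => by
    have h0 : PadicInt.toZMod (a i - (b i : ℤ_[l])) = 0 := by rw [map_sub, map_natCast, ZMod.natCast_zmod_val, sub_self]
    have h1 : a i - (b i : ℤ_[l]) ∈ RingHom.ker (PadicInt.toZMod (p := l)) := h0
    rw [PadicInt.ker_toZMod, PadicInt.maximalIdeal_eq_span_p, Ideal.mem_span_singleton] at h1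
    exact h1
  choose w hw using hb
  let φ : EndAV.Hom A B := ∑ i, ((b i : ℕ) : ℤ) • (f i : EndAV.Hom A B)
  have hφ : EndAV.Hom.tateMap l (Over.mk σ) φ =
      (l : ℤ_[l]) • (u - ∑ i, w i • EndAV.Hom.tateMap l (Over.mk σ) (f i : EndAV.Hom A B)) := by
    rw [smul_sub, ← h, Finset.smul_sum, ← Finset.sum_sub_distrib, map_sum]
    refine Finset.sum_congr rfl fun i _ => ?_
    rw [tateHom_zsmul, ← mul_smul, ← sub_smul, ← hw i]
    congr 1
    push_cast
    ring
  obtain ⟨ψ, hψ⟩ := exists_eq_smul σ l hlK hφ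
  have hmem : φ ∈ sat N := Submodule.sum_mem _ fun i _ => Submodule.smul_mem _ _ (f i).2
  let ψ' : sat N := ⟨ψ, sat_saturated (Nat.cast_ne_zero.2 hl.out.ne_zero) (hψ ▸ hmem)⟩
  have heq : ∑ i, ((b i : ℕ) : ℤ) • f i = (l : ℤ) • ψ' := by
    refine Subtype.ext ?_
    rw [AddSubmonoidClass.coe_finsetSum]
    exact hψ
  intro i
  have h2 := congrArg (fun v => f.repr v i) heq
  simp only [map_sum, map_smul, Module.Basis.repr_self, Finsupp.smul_single, smul_eq_mul, mul_one,
    Finsupp.finsetSum_apply, Finsupp.smul_apply] at h2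
  rw [Finset.sum_eq_single i (fun j _ hj => Finsupp.single_eq_of_ne hj.symm) (fun hh => absurd (Finset.mem_univ i) hh),
    Finsupp.single_eq_same] at h2
  rw [eq_add_of_sub_eq (hw i), show ((b i : ℕ) : ℤ_[l]) = (((b i : ℕ) : ℤ) : ℤ_[l]) by push_cast; rfl, h2]
  push_cast
  exact dvd_add (dvd_mul_right _ _) (dvd_mul_right _ _)

/-- The Tate maps of a basis of a saturated subgroup are independent over `ℤ_l`. -/
theorem linearIndependent_tate_basis (hlK : (l : K) ≠ 0) {N : Submodule ℤ (EndAV.Hom A B)} {J : Type*} [Fintype J]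
    (f : Module.Basis J ℤ (sat N)) :
    LinearIndependent ℤ_[l] fun i => EndAV.Hom.tateMap l (Over.mk σ) (f i : EndAV.Hom A B) := by
  rw [Fintype.linearIndependent_iff]
  intro a ha i
  have key : ∀ m (a : J → ℤ_[l]), ∑ i, a i • EndAV.Hom.tateMap l (Over.mk σ) (f i : EndAV.Hom A B) = 0 →
      ∀ i, (l : ℤ_[l]) ^ m ∣ a i := by
    intro m
    induction m with
    | zero => intro a _ i; rw [pow_zero]; exact one_dvd _
    | succ m ih =>
      intro a ha
      choose a' ha' using dvd_of_sum_eq_smul σ l hlK f a 0 (by rw [ha, smul_zero])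
      have h0 : ∑ i, a' i • EndAV.Hom.tateMap l (Over.mk σ) (f i : EndAV.Hom A B) = 0 := by
        refine LinearMap.ext fun z => eq_zero_of_smul_eq_zero B σ l _ ?_
        rw [← natCast_smul_tate B σ l, ← LinearMap.smul_apply, Finset.smul_sum]
        conv_rhs => rw [← LinearMap.zero_apply (σ₁₂ := RingHom.id ℤ_[l]) z, ← ha]
        refine congrFun (congrArg DFunLike.coe (Finset.sum_congr rfl fun i _ => ?_)) z
        rw [← mul_smul, ← ha' i]
      intro i
      rw [ha' i, pow_succ']
      exact mul_dvd_mul_left _ (ih a' h0 i)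
  by_contra hne
  have h := key ((a i).valuation + 1) a ha i
  obtain ⟨c, hc⟩ := h
  have hc0 : c ≠ 0 := by rintro rfl; exact hne (by rw [hc, mul_zero])
  have h2 := congrArg PadicInt.valuation hc
  rw [PadicInt.valuation_p_pow_mul _ _ hc0] at h2
  omega

/-- Homomorphisms independent over `ℤ` have independent Tate maps over `ℤ_l`. -/
theorem linearIndependent_tate (hlK : (l : K) ≠ 0) {n : ℕ} {e : Fin n → EndAV.Hom A B} (he : LinearIndependent ℤ e) :
    LinearIndependent ℤ_[l] fun i => EndAV.Hom.tateMap l (Over.mk σ) (e i) := by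
  haveI := finite_sat_hom e
  let f := Module.Free.chooseBasis ℤ (sat (Submodule.span ℤ (Set.range e)))
  let e' : Fin n → sat (Submodule.span ℤ (Set.range e)) := fun i =>
    ⟨e i, le_sat _ (Submodule.subset_span ⟨i, rfl⟩)⟩
  have hf := fun i => (mem_sat).1 (f i).2
  choose m hm hmem using hf
  choose c hc using fun i => (Submodule.mem_span_range_iff_exists_fun ℤ).1 (hmem i)
  let M : ℤ := ∏ i, m i
  have hM : M ≠ 0 := Finset.prod_ne_zero_iff.2 fun i _ => hm i
  choose R hR using fun i => Finset.dvd_prod_of_mem m (Finset.mem_univ i)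
  -- the change of bases
  have hinv : ∀ j k, ∑ i, f.repr (e' j) i * (R i * c i k) = if j = k then M else 0 := by
    intro j k
    have h1 : M • e j = ∑ k, (∑ i, f.repr (e' j) i * (R i * c i k)) • e k := by
      have h2 : e j = ∑ i, f.repr (e' j) i • (f i : EndAV.Hom A B) := by
        have := congrArg Subtype.val (f.sum_repr (e' j))
        rw [AddSubmonoidClass.coe_finsetSum] at this
        exact this.symm
      rw [h2, Finset.smul_sum]
      simp_rw [Finset.sum_smul]
      rw [Finset.sum_comm]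
      refine Finset.sum_congr rfl fun i _ => ?_
      rw [show M = R i * m i by rw [mul_comm]; exact hR i, smul_comm, mul_smul, ← hc i]
      simp_rw [Finset.smul_sum, mul_smul]
    have h3 : ∑ k', ((∑ i, f.repr (e' j) i * (R i * c i k')) - if j = k' then M else 0) • e k' = 0 := by
      simp only [sub_smul, Finset.sum_sub_distrib, ← h1, ite_smul, zero_smul, Finset.sum_ite_eq, Finset.mem_univ,
        if_true, sub_self]
    exact sub_eq_zero.1 (Fintype.linearIndependent_iff.1 he _ h3 k)
  rw [Fintype.linearIndependent_iff]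
  intro a ha k
  have h4 : ∑ i, (∑ j, a j * (f.repr (e' j) i : ℤ_[l])) •
      EndAV.Hom.tateMap l (Over.mk σ) (f i : EndAV.Hom A B) = 0 := by
    simp_rw [Finset.sum_smul]
    rw [Finset.sum_comm, ← ha]
    refine Finset.sum_congr rfl fun j _ => ?_
    have h2 : e j = ∑ i, f.repr (e' j) i • (f i : EndAV.Hom A B) := by
      have := congrArg Subtype.val (f.sum_repr (e' j))
      rw [AddSubmonoidClass.coe_finsetSum] at this
      exact this.symm
    simp only [h2, map_sum, tateHom_zsmul, Finset.smul_sum, mul_smul]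
  have h5 := Fintype.linearIndependent_iff.1 (linearIndependent_tate_basis σ l hlK f) _ h4
  have h6 : ∑ i, (∑ j, a j * (f.repr (e' j) i : ℤ_[l])) * ((R i * c i k : ℤ) : ℤ_[l]) = 0 := by simp [h5]
  simp_rw [Finset.sum_mul, mul_assoc] at h6
  rw [Finset.sum_comm] at h6
  simp_rw [← Finset.mul_sum, ← Int.cast_mul, ← Int.cast_sum, hinv] at h6
  rw [Finset.sum_eq_single k (fun j _ hj => by rw [if_neg hj, Int.cast_zero, mul_zero])
    (fun hh => absurd (Finset.mem_univ k) hh), if_pos rfl] at h6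
  exact (mul_eq_zero.1 h6).resolve_right (Int.cast_ne_zero.2 hM)

include σ hl in
/-- `Hom(A, B)` is finitely generated, of rank at most `4 g h`. -/
theorem finite_hom_and_rank_le (hlK : (l : K) ≠ 0) {g h : ℕ} (hg : topologicalKrullDim A.left = (g : WithBot ℕ∞))
    (hh : topologicalKrullDim B.left = (h : WithBot ℕ∞)) :
    Module.Finite ℤ (EndAV.Hom A B) ∧ Module.finrank ℤ (EndAV.Hom A B) ≤ 4 * g * h := by
  haveI := module_finite A σ l hlK
  haveI := module_finite B σ l hlK
  haveI : Module.Free ℤ_[l] (TateMod A l (Over.mk σ)) := Module.free_of_finite_type_torsion_free'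
  haveI : Module.Free ℤ_[l] (TateMod B l (Over.mk σ)) := Module.free_of_finite_type_torsion_free'
  have hbd : ∀ (n : ℕ) (e : Fin n → EndAV.Hom A B), LinearIndependent ℤ e → n ≤ 4 * g * h := fun n e he => by
    have := (linearIndependent_tate σ l hlK he).fintype_card_le_finrank
    rw [Fintype.card_fin, Module.finrank_linearMap, finrank_eq A σ l hlK hg, finrank_eq B σ l hlK hh] at this
    linarith
  classical
  let S : Set ℕ := {n | ∃ e : Fin n → EndAV.Hom A B, LinearIndependent ℤ e}
  have hS : BddAbove S := ⟨4 * g * h, fun n ⟨e, he⟩ => hbd n e he⟩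
  have h0 : S.Nonempty := ⟨0, Fin.elim0, linearIndependent_empty_type⟩
  obtain ⟨e, he⟩ := Nat.sSup_mem h0 hS
  have htop : sat (Submodule.span ℤ (Set.range e)) = ⊤ := by
    refine eq_top_iff.2 fun x _ => ?_
    by_contra hx
    have : sSup S + 1 ∈ S := ⟨Fin.cons x e, by
      rw [Fintype.linearIndependent_iff]
      intro c hc
      rw [Fin.sum_univ_succ] at hc
      simp only [Fin.cons_zero, Fin.cons_succ] at hc
      have hc0 : c 0 = 0 := by
        by_contra hne
        refine hx ⟨c 0, hne, ?_⟩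
        rw [eq_neg_of_add_eq_zero_left hc]
        exact Submodule.neg_mem _ (Submodule.sum_mem _ fun i _ =>
          Submodule.smul_mem _ _ (Submodule.subset_span ⟨i, rfl⟩))
      rw [hc0, zero_smul, zero_add] at hc
      intro i
      refine Fin.cases hc0 (fun j => Fintype.linearIndependent_iff.1 he _ hc j) i⟩
    exact absurd (le_csSup hS this) (by omega)
  have hfin : Module.Finite ℤ (EndAV.Hom A B) := by
    haveI := finite_sat_hom e
    exact Module.Finite.of_surjective (Submodule.subtype (sat (Submodule.span ℤ (Set.range e))))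
      fun x => ⟨⟨x, htop ▸ trivial⟩, rfl⟩
  haveI := hfin
  exact ⟨hfin, hbd _ _ (Module.finBasis ℤ (EndAV.Hom A B)).linearIndependent⟩

end GrothLib.HomFG
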